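import Cfsg.Agent.Lib.StructB.HN2HS.X4.F0

/-! The assembled certificate. -/

set_option autoImplicit false
set_option maxRecDepth 100000
set_option Elab.async false

namespace CfsgLib.StructB.HN2HS.X4

open CfsgLib.InvChar.Coset CfsgLib.KnownA.CosetInv

theorem facts_ok : ∀ j < 2, cert.chkRun 128 (j * 128) (cert.just.get j) = true := by
  intro j hj
  rcases Nat.lt_or_ge j 2 with h0 | h0
  · obtain ⟨i, rfl⟩ : ∃ i, j = 0 + i := ⟨j - 0, by omega⟩
    exact cert.chkBlocks_get 2 0 chk_facts0 i (by omega)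
  omega

theorem path_ok : cert.walk cert.nf 5 path 0 [] (fun _ c L => Nat.beq c 0 && leq L.reverse [0, 0, 0, 0]) = true := by
  decide +kernel

end CfsgLib.StructB.HN2HS.X4
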